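import Groth.Agent.H7Lim.ProperFlatModel
import Groth.Agent.H8Props.FibreDimApprox
import Groth.Agent.H17.FPExt.Colimit
import Groth.Agent.H15Site.QcColim
import Groth.Agent.H16Derived.ColimPush.Sheaf
import Groth.Agent.H06EGA9.StructureStalk
import Groth.Agent.H10Coh.Pn.Results
import Groth.Agent.H10Coh.PushEdge
import Groth.Agent.LeadBC.SectRpush
import Groth.Agent.S0042
import Groth.Agent.S11319

/-!
# Cohomology above the fibre dimension, over an arbitrary affine base
-/

set_option autoImplicit false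
set_option linter.style.haveILetI false

universe u

open CategoryTheory CategoryTheory.Limits AlgebraicGeometry Opposite TopologicalSpace

namespace Groth.Agent.H4TopDual

attribute [local instance 10000] H10Coh.hasSheafifyAb H10Coh.hasWeakSheafifyAb H10Coh.hasExtAb H10Coh.enoughInjAb

open H8Props H8Props.FieldDim

theorem topologicalKrullDim_le_of_components {Z : Scheme.{u}} {n : WithBot ℕ∞}
    (h : ∀ T ∈ irreducibleComponents Z, topologicalKrullDim T ≤ n) : topologicalKrullDim Z ≤ n := by
  rw [dim_eq_iSup_cdim]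
  refine iSup_le fun z => ?_
  obtain ⟨T, hT, hzT⟩ := exists_mem_irreducibleComponents_subset_of_isIrreducible (closure ({z} : Set Z))
    (isIrreducible_singleton.closure)
  exact ((Topology.IsEmbedding.inclusion hzT).isInducing.topologicalKrullDim_le).trans (h T hT)

/-- The fibre dimension is at most `d` away from a constructible set. -/
theorem dim_fiber_le_iff {X S : Scheme.{u}} (f : X ⟶ S) [LocallyOfFiniteType f] (s : S) (d : ℕ) :
    topologicalKrullDim (f.fiber s) ≤ d ↔ s ∈ (f '' {x | FlatMor.fibreDimAt f x ≤ d}ᶜ)ᶜ := by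
  haveI := locallyOfFiniteType_fiberToSpec f s
  have hfd : ∀ u : f.fiber s, FlatMor.fibreDimAt f (f.fiberι s u) = ⨆ η : {η // η ⤳ u}, cdim η.1 :=
    fun u => (fibreDimAt_eq_localDim f u).trans
      (localDim_eq (k := S.residueField s) (f.fiberToSpecResidueField s) u)
  rw [dim_eq_iSup_cdim (X := f.fiber s), iSup_le_iff]
  constructor
  · rintro h ⟨x, hx, hxs⟩
    obtain ⟨u, rfl⟩ : x ∈ Set.range (f.fiberι s) := by rw [f.range_fiberι]; exact hxs
    exact hx ((hfd u).trans_le (iSup_le fun η => h η.1))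
  · intro h u
    have hu : FlatMor.fibreDimAt f (f.fiberι s u) ≤ d := by
      by_contra hle
      exact h ⟨_, hle, (f.range_fiberι s).subset (Set.mem_range_self u)⟩
    exact (le_iSup_of_le (f := fun η : {η // η ⤳ u} => cdim η.1) ⟨u, specializes_rfl⟩ le_rfl).trans
      ((hfd u).ge.trans hu)

theorem isConstructible_dim_fiber_le {X S : Scheme.{u}} (f : X ⟶ S) [IsNoetherian S]
    [LocallyOfFiniteType f] [QuasiCompact f] (d : ℕ) :
    Topology.IsConstructible {s : S | topologicalKrullDim (f.fiber s) ≤ d} := by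
  haveI : IsLocallyNoetherian X := LocallyOfFiniteType.isLocallyNoetherian f
  haveI : CompactSpace X := QuasiCompact.compactSpace_of_compactSpace f
  haveI : IsNoetherian X := {}
  haveI : LocallyOfFinitePresentation f := inferInstance
  have : {s : S | topologicalKrullDim (f.fiber s) ≤ d} = (f '' {x | FlatMor.fibreDimAt f x ≤ d}ᶜ)ᶜ :=
    Set.ext fun s => dim_fiber_le_iff f s d
  rw [this]
  refine (f.isConstructible_image ?_).compl
  exact ((show IsRetrocompact {x : X | FlatMor.fibreDimAt f x ≤ d} from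
    fun _ _ _ => NoetherianSpace.isCompact _).isConstructible (FieldDim.isOpen_fibreDimAt_le f d)).compl

/-- A Noetherian model keeping the bound on the dimension of the fibres. -/
theorem exists_model {A : Type u} [CommRing A] {X : Scheme.{u}} (f : X ⟶ Spec (CommRingCat.of A))
    [IsProper f] [Flat f] [LocallyOfFinitePresentation f] (n : ℕ)
    (hd : ∀ y, topologicalKrullDim (f.fiber y) ≤ n) :
    ∃ (R : Type u) (_ : CommRing R) (X₀ : Scheme.{u}) (f₀ : X₀ ⟶ Spec (CommRingCat.of R)) (g : X ⟶ X₀),
      IsNoetherianRing R ∧ IsProper f₀ ∧ IsAffineHom g ∧ ∀ y, topologicalKrullDim (f₀.fiber y) ≤ n := by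
  haveI : Coh.IsQCoh (Coh.structureModule X) :=
    (H17.ConsProp.isCoh_of_isFP (H06EGA9.isFP_structureModule (X := X))).1
  obtain ⟨R₀, _, _, X₀, f₀, F₀, g, hfin, hN, hp, -, -, -, -, hsq, -⟩ :=
    H7Lim.exists_proper_flat_model f (Coh.structureModule X) H06EGA9.isFP_structureModule
      (fun x => (H06EGA9.isFlatOverAt_structureModule_iff f x).2 (Flat.stalkMap f x))
  have hpre : ∀ p : PrimeSpectrum A, PrimeSpectrum.comap (algebraMap R₀ A) p ∈
      {s : Spec (CommRingCat.of R₀) | topologicalKrullDim (f₀.fiber s) ≤ n} := fun p => by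
    show topologicalKrullDim (f₀.fiber (Spec.map (CommRingCat.ofHom (algebraMap R₀ A)) p)) ≤ n
    rw [← FieldDim.dim_fiber_baseChange f₀ hsq p]
    exact hd p
  obtain ⟨R', hR', hmem⟩ := FibreDimApprox.exists_subalgebra_range_subset (R := R₀) (A := A)
    (isConstructible_dim_fiber_le f₀ n) hpre
  haveI : Algebra.FiniteType R₀ R' := R'.fg_iff_finiteType.mp hR'
  haveI : IsNoetherianRing R' := Algebra.FiniteType.isNoetherianRing R₀ R'
  let h := Spec.map (CommRingCat.ofHom (algebraMap R₀ R'))
  let k := Spec.map (CommRingCat.ofHom (algebraMap R' A))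
  have hk : k ≫ h = Spec.map (CommRingCat.ofHom (algebraMap R₀ A)) := by
    simp only [k, h, ← Spec.map_comp, ← CommRingCat.ofHom_comp, ← IsScalarTower.algebraMap_eq]
  let g' : X ⟶ pullback f₀ h := pullback.lift g (f ≫ k) (by rw [hsq.w, Category.assoc, hk])
  have hsq' : IsPullback g' f (pullback.snd f₀ h) k := by
    refine IsPullback.of_right ?_ (pullback.lift_snd _ _ _) (IsPullback.of_hasPullback f₀ h)
    rw [pullback.lift_fst, hk]; exact hsq
  refine ⟨R', inferInstance, pullback f₀ h, pullback.snd f₀ h, g', inferInstance,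
    MorphismProperty.pullback_snd _ _ inferInstance, ?_, fun y => ?_⟩
  · exact MorphismProperty.of_isPullback (P := @IsAffineHom) hsq'.flip inferInstance
  · rw [FieldDim.dim_fiber_baseChange f₀ (IsPullback.of_hasPullback f₀ h) y]
    exact hmem y

/-- Vanishing of the cohomology of a quasi-coherent module can be tested after an isomorphism of schemes. -/
theorem subsingleton_HH_of_pullback_iso {P E : Scheme.{u}} (e : P ≅ E) (F : E.Modules) [F.IsQuasicoherent]
    (q : ℕ) (h : Subsingleton (Coh.HH P ((Scheme.Modules.pullback e.hom).obj F) q)) :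
    Subsingleton (Coh.HH E F q) := by
  haveI := H10Coh.enoughInjMod E
  let G : P.Modules := (Scheme.Modules.pushforward e.inv).obj F
  have e1 : F ≅ (Scheme.Modules.pushforward e.hom).obj G :=
    ((Scheme.Modules.pushforwardId E).app F).symm ≪≫
      (Scheme.Modules.pushforwardCongr e.inv_hom_id.symm).app F ≪≫
      ((Scheme.Modules.pushforwardComp e.inv e.hom).app F).symm
  have e2 : (Scheme.Modules.pullback e.hom).obj F ≅ G :=
    ((Scheme.Modules.restrictFunctorIsoPullback e.hom).app F).symm ≪≫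
      (Scheme.Modules.restrictFunctor e.hom).mapIso e1 ≪≫
      (Scheme.Modules.restrictFunctorAdjCounitIso e.hom).app G
  have h1 : Subsingleton (Coh.HH P G q) := H10Coh.subsingleton_HH_of_iso e2 q h
  exact (H10Coh.bijective_pushEdge e.inv F (H10Coh.isAcyclic_push_of_isAffineHom e.inv F) q).2.subsingleton

theorem subsingleton_HH_of_restrict_top {X : Scheme.{u}} (G : X.Modules) [G.IsQuasicoherent] (p : ℕ) (U : X.Opens)
    (hU : U = ⊤) (h : Subsingleton (Coh.HH U.toScheme (G.restrict U.ι) p)) : Subsingleton (Coh.HH X G p) := by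
  subst hU
  refine subsingleton_HH_of_pullback_iso X.topIso G p ?_
  exact H10Coh.subsingleton_HH_of_iso ((Scheme.Modules.restrictFunctorIsoPullback (⊤ : X.Opens).ι).app G) p h

/-- A module whose higher direct image has no stalks has no cohomology over an affine base. -/
theorem subsingleton_HH_of_isCoh {R : Type u} [CommRing R] [IsNoetherianRing R] {X : Scheme.{u}}
    (f : X ⟶ Spec (CommRingCat.of R)) [IsProper f] (n : ℕ) (hd : ∀ y, topologicalKrullDim (f.fiber y) ≤ n)
    (G : X.Modules) (hG : Coh.IsCoh G) {p : ℕ} (hp : n < p) : Subsingleton (Coh.HH X G p) := by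
  haveI := H10Coh.enoughInjMod X
  haveI := hG.1
  obtain ⟨e⟩ := S11319.result f G p
  let Sh : CohTop.Ab (Spec (CommRingCat.of R)).toTopCat := (Coh.RpushAb f p).obj (Coh.toAb G)
  have hsec : Subsingleton (Sh.obj.obj (op ⊤)) := ⟨fun a b =>
    TopCat.Presheaf.section_ext Sh ⊤ a b fun y _ =>
      (AddCommGrpCat.subsingleton_of_isZero (S0042.result f y n (hd y) G hG p hp)).elim _ _⟩
  have hT : IsAffineOpen (⊤ : (Spec (CommRingCat.of R)).Opens) := isAffineOpen_top _
  letI := LeadBC.preOver f hT
  obtain ⟨e₂, -⟩ := LeadBC.exists_rpushEquiv f hT G p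
  haveI : Subsingleton Γ((Coh.Rpush f p).obj G, (⊤ : (Spec (CommRingCat.of R)).Opens)) :=
    @Equiv.subsingleton _ _
      (((sheafToPresheaf _ _).mapIso e).app (op (⊤ : (Spec (CommRingCat.of R)).Opens))).addCommGroupIsoToAddEquiv.toEquiv hsec
  have h1 : Subsingleton (Coh.HH (f ⁻¹ᵁ ⊤).toScheme (G.restrict (f ⁻¹ᵁ ⊤).ι) p) := e₂.toEquiv.subsingleton
  exact subsingleton_HH_of_restrict_top G p _ (Scheme.Hom.preimage_top f) h1

theorem preservesColimit_functorH {X : Scheme.{u}} [CompactSpace X] [QuasiSeparatedSpace X] (p : ℕ)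
    {I : Type u} [SmallCategory I] [IsFiltered I] (D : I ⥤ CohTop.Ab X.toTopCat) :
    PreservesColimit D (Sheaf.functorH.{u} (Opens.grothendieckTopology X) p) := by
  haveI : PrespectralSpace X.toTopCat := inferInstanceAs (PrespectralSpace X)
  haveI : QuasiSeparatedSpace X.toTopCat := ‹QuasiSeparatedSpace X›
  haveI : CompactSpace X.toTopCat := ‹CompactSpace X›
  haveI hq := H15Site.QcColim.preservesColimit_cohomology (X := X.toTopCat) (⊤ : Opens X.toTopCat) isCompact_univ p D
  refine @preservesColimit_of_natIso _ _ _ _ _ _ D _ _ ?_ hq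
  refine (NatIso.ofComponents (fun F => (H10Coh.topEquiv F p).symm.toAddCommGrpIso) fun {F G} φ => ?_)
  ext x
  apply (H10Coh.topEquiv G p).injective
  refine ((H10Coh.topEquiv G p).apply_symm_apply _).trans (Eq.trans ?_ (H10Coh.topEquiv_map φ p _).symm)
  exact (congrArg (fun t => t.comp (Abelian.Ext.mk₀ φ) (add_zero p)) ((H10Coh.topEquiv F p).apply_symm_apply x)).symm

/-- Cohomology vanishes above the dimension of the fibres. -/
theorem subsingleton_HH {A : Type u} [CommRing A] {X : Scheme.{u}} (f : X ⟶ Spec (CommRingCat.of A))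
    [IsProper f] [Flat f] [LocallyOfFinitePresentation f] (n : ℕ)
    (hd : ∀ y, topologicalKrullDim (f.fiber y) ≤ n) (F : X.Modules) (hF : Coh.IsQCoh F) {p : ℕ} (hp : n < p) :
    Subsingleton (Coh.HH X F p) := by
  obtain ⟨R, _, X₀, f₀, g, hN, hp₀, hg, hd₀⟩ := exists_model f n hd
  haveI := H10Coh.enoughInjMod X
  haveI : F.IsQuasicoherent := hF
  haveI : IsLocallyNoetherian X₀ := LocallyOfFiniteType.isLocallyNoetherian f₀
  haveI : CompactSpace X₀ := QuasiCompact.compactSpace_of_compactSpace f₀
  haveI : IsNoetherian X₀ := ⟨⟩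
  let G := (Scheme.Modules.pushforward g).obj F
  have hGq : Coh.IsQCoh G := H10Coh.isQuasicoherent_pushforward_of_isAffineHom g F
  suffices h : Subsingleton (Coh.HH X₀ G p) from
    (H10Coh.bijective_pushEdge g F (H10Coh.isAcyclic_push_of_isAffineHom g F) p).2.subsingleton
  obtain ⟨I, _, _, D, c, hc, hD, hpt⟩ := H17.FPExt.exists_isColimit_fp (F := G) hGq
  obtain ⟨hc'⟩ := H16Derived.ColimPush.nonempty_isColimit_sh hc
  haveI := preservesColimit_functorH (X := X₀) p (D ⋙ H10Coh.shF X₀)
  have hlim := isColimitOfPreserves (Sheaf.functorH.{u} (Opens.grothendieckTopology X₀) p) hc'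
  refine (show Subsingleton (Coh.HH X₀ c.pt p) from subsingleton_of_forall_eq 0 fun x => ?_) |> fun h => hpt ▸ h
  obtain ⟨i, z, rfl⟩ := Concrete.isColimit_exists_rep _ hlim x
  have : Subsingleton (Coh.HH X₀ (D.obj i) p) :=
    subsingleton_HH_of_isCoh f₀ n hd₀ _ (H17.ConsProp.isCoh_of_isFP (hD i)) hp
  rw [show z = 0 from Subsingleton.elim (α := Coh.HH X₀ (D.obj i) p) z 0]
  exact map_zero _

end Groth.Agent.H4TopDual
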