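import Groth.Agent.H4TopDual.Vanish
import Groth.Agent.H17.QCohCat.Groth
import Groth.Agent.H16Derived.AcyclicSums
import Groth.Prelude.Def_Canon
import Mathlib.Algebra.Category.ModuleCat.Abelian
import Mathlib.CategoryTheory.Limits.Constructions.LimitsOfProductsAndEqualizers

/-!
# The dualizing module of the top cohomology
-/

set_option autoImplicit false
set_option linter.style.haveILetI false

universe u

open CategoryTheory CategoryTheory.Limits AlgebraicGeometry Opposite TopologicalSpace QCohCat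

namespace Groth.Agent.H4TopDual

attribute [local instance 10000] H10Coh.hasSheafifyAb H10Coh.hasWeakSheafifyAb H10Coh.hasExtAb H10Coh.enoughInjAb

open H17.QCohGroth

variable (A : Type u) [CommRing A] (X : Scheme.{u}) [X.Over (Spec (CommRingCat.of A))]

/-- Quasi-coherent modules as abelian sheaves. -/
noncomputable abbrev toShQ : QCoh X ⥤ CohTop.Ab X.toTopCat := (isQCoh X).ι ⋙ H10Coh.shF X

/-- `H^n` on quasi-coherent modules, as `A`-modules. -/
noncomputable def hFun (n : ℕ) : QCoh X ⥤ ModuleCat.{u} A where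
  obj F := ModuleCat.of A (Coh.HH X F.obj n)
  map φ := ModuleCat.ofHom (Canon.HHlin A φ.hom n)
  map_id F := by
    ext x
    show Sheaf.H.map ((SheafOfModules.toSheaf X.ringCatSheaf).map (𝟙 F.obj)) n x = x
    erw [CategoryTheory.Functor.map_id, Sheaf.H.map_id_apply]
  map_comp φ ψ := by
    ext x
    show Sheaf.H.map ((SheafOfModules.toSheaf X.ringCatSheaf).map (φ.hom ≫ ψ.hom)) n x = _
    erw [CategoryTheory.Functor.map_comp, Sheaf.H.map_comp_apply]
    rfl

noncomputable instance (n : ℕ) : (hFun A X n).Additive where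
  map_add {F G φ ψ} := by
    ext x
    show Sheaf.H.map ((SheafOfModules.toSheaf X.ringCatSheaf).map (φ.hom + ψ.hom)) n x = _
    erw [CategoryTheory.Functor.map_add, Sheaf.H.map_add_apply]
    rfl

instance preservesColimitsOfShape_toShQ (J : Type u) [SmallCategory J] :
    PreservesColimitsOfShape J (toShQ X) :=
  haveI : PreservesColimitsOfShape J (H10Coh.shF X) := H10Coh.preservesColimitsOfShape_toSheaf X.ringCatSheaf J
  inferInstance

theorem preservesFilteredColimits_hFun [CompactSpace X] [QuasiSeparatedSpace X] (n : ℕ) :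
    PreservesFilteredColimitsOfSize.{u, u} (hFun A X n) := by
  refine ⟨fun J _ _ => ?_⟩
  haveI : PreservesColimitsOfShape J (hFun A X n ⋙ forget₂ (ModuleCat.{u} A) AddCommGrpCat.{u}) := by
    haveI : PreservesColimitsOfShape J (Sheaf.functorH.{u} (Opens.grothendieckTopology X) n) :=
      ⟨fun {D} => preservesColimit_functorH n D⟩
    exact preservesColimitsOfShape_of_natIso
      (show toShQ X ⋙ Sheaf.functorH.{u} (Opens.grothendieckTopology X) n ≅
          hFun A X n ⋙ forget₂ (ModuleCat.{u} A) AddCommGrpCat.{u} from NatIso.ofComponents (fun _ => Iso.refl _))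
  haveI : ReflectsColimitsOfShape J (forget₂ (ModuleCat.{u} A) AddCommGrpCat.{u}) :=
    reflectsColimitsOfShape_of_reflectsIsomorphisms
  exact preservesColimitsOfShape_of_reflects_of_preserves _ (forget₂ (ModuleCat.{u} A) AddCommGrpCat.{u})

theorem preservesFiniteColimits_hFun (n : ℕ)
    (hv : ∀ F : X.Modules, Coh.IsQCoh F → Subsingleton (Coh.HH X F (n + 1))) :
    PreservesFiniteColimits (hFun A X n) := by
  haveI : PreservesFiniteLimits (toShQ X) := by
    haveI : PreservesFiniteLimits (isQCoh X).ι := by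
      haveI := (isQCoh X).preservesKernels_ι
      exact Functor.preservesFiniteLimits_of_preservesKernels _
    haveI : PreservesFiniteLimits (H10Coh.shF X) := inferInstance
    exact comp_preservesFiniteLimits _ _
  haveI : PreservesFiniteColimits (toShQ X) := ⟨fun K _ _ => inferInstance⟩
  refine ((Functor.preservesFiniteColimits_tfae (hFun A X n)).out 0 3).1 ?_
  intro S hS
  have hS' : (S.map (toShQ X)).ShortExact := hS.map_of_exact (toShQ X)
  constructor
  · refine (ShortComplex.moduleCat_exact_iff _).2 fun x hx => ?_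
    obtain ⟨y, hy⟩ := Abelian.Ext.covariant_sequence_exact₂ _ hS' x hx
    exact ⟨y, hy⟩
  · refine (ModuleCat.epi_iff_surjective _).2 fun x => ?_
    obtain ⟨y, hy⟩ := Abelian.Ext.covariant_sequence_exact₃ _ hS' x rfl
      (@Subsingleton.elim _ (hv S.X₁.obj S.X₁.property) _ _)
    exact ⟨y, hy⟩

theorem isLeftAdjoint_hFun [CompactSpace X] [QuasiSeparatedSpace X] (n : ℕ)
    (hv : ∀ F : X.Modules, Coh.IsQCoh F → Subsingleton (Coh.HH X F (n + 1))) : (hFun A X n).IsLeftAdjoint := by
  haveI := preservesFilteredColimits_hFun A X n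
  haveI := preservesFiniteColimits_hFun A X n hv
  haveI : ∀ J, PreservesColimitsOfShape (Discrete.{u} J) (hFun A X n) :=
    fun J => H16Derived.AcyclicSums.preservesCoproducts_of_filtered (hFun A X n) J
  haveI : PreservesColimitsOfSize.{u, u} (hFun A X n) := preservesColimits_of_preservesCoequalizers_and_coproducts _
  exact isLeftAdjoint_of_preservesColimits (hFun A X n)

/-- The dualizing module of the top cohomology, with its trace. -/
theorem exists_dual [CompactSpace X] [QuasiSeparatedSpace X] (n : ℕ)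
    (hv : ∀ F : X.Modules, Coh.IsQCoh F → Subsingleton (Coh.HH X F (n + 1))) :
    ∃ (ω : X.Modules), Coh.IsQCoh ω ∧ ∃ γ : Coh.HH X ω n →ₗ[A] A, ∀ F : X.Modules, Coh.IsQCoh F →
      Function.Bijective fun φ : F ⟶ ω => γ ∘ₗ Canon.HHlin A φ n := by
  haveI := isLeftAdjoint_hFun A X n hv
  let adj := Adjunction.ofIsLeftAdjoint (hFun A X n)
  let ω := (hFun A X n).rightAdjoint.obj (ModuleCat.of A A)
  refine ⟨ω.obj, ω.property, (adj.counit.app _).hom, fun F hF => ?_⟩
  let e : (F ⟶ ω.obj) → (Coh.HH X F n →ₗ[A] A) := fun φ =>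
    ((adj.homEquiv ⟨F, hF⟩ (ModuleCat.of A A)).symm (ObjectProperty.homMk (X := ⟨F, hF⟩) (Y := ω) φ)).hom
  have he : (fun φ : F ⟶ ω.obj => (adj.counit.app (ModuleCat.of A A)).hom ∘ₗ Canon.HHlin A φ n) = e := by
    funext φ
    show _ = ((adj.homEquiv ⟨F, hF⟩ (ModuleCat.of A A)).symm _).hom
    rw [Adjunction.homEquiv_counit]
    rfl
  refine (congrArg Function.Bijective he).mpr ?_
  refine ⟨fun φ ψ h => ?_, fun g => ?_⟩
  · exact congrArg (fun t : (⟨F, hF⟩ : QCoh X) ⟶ ω => t.hom)
      ((adj.homEquiv ⟨F, hF⟩ (ModuleCat.of A A)).symm.injective (ModuleCat.hom_ext h))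
  · refine ⟨((adj.homEquiv ⟨F, hF⟩ (ModuleCat.of A A)) (ModuleCat.ofHom g)).hom, ?_⟩
    exact congrArg ModuleCat.Hom.hom ((adj.homEquiv ⟨F, hF⟩ (ModuleCat.of A A)).symm_apply_apply (ModuleCat.ofHom g))

end Groth.Agent.H4TopDual
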